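import Cfsg.Agent.H474.ONC.Gen
import Cfsg.Agent.H461.Cop.ON
import Cfsg.Agent.CpAutON.Seven

/-!
# Elements of order 5 and 7 of the O'Nan group commuting with an involution (helper474)

`f` an involution, `K0 = C(f)`, `v² = f`, `J = C(v)`. For `x ∈ J` of order 5 or 7: `C(x) ∩ C(f) = ⟨x⟩⟨v⟩`.
-/

set_option autoImplicit false
set_option maxRecDepth 100000

namespace Cfsg.Agent.H474.ONC

open Subgroup Cfsg
open Cfsg.Spor (ON)
open Cfsg.Spor.ON (Gen)
open Cfsg.Agent.SporadicB.ON45Word (on)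
open Cfsg.Agent.KFacts.ON.Words (hs vv v va)
open Cfsg.Agent.KFacts.ON.Struct
open Cfsg.Agent.KFacts.ON.Cent (hON finite_ON cen card_K0)
open Cfsg.Agent.KFacts.MulSpor.ON (w w_append w_one w_cons w_iw iw)
open Cfsg.Agent.ONType.TupK (K0)
open Cfsg.Agent.CpAutON.Codes (v_four w_mem)

theorem order_v : orderOf v = 4 := by
  have h8 : orderOf v ∣ 2 ^ 2 := orderOf_dvd_of_pow_eq_one v_four
  obtain ⟨k, hk, hk2⟩ := (Nat.dvd_prime_pow Nat.prime_two).1 h8
  have h9 : ¬ orderOf v ∣ 2 := by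
    intro h
    have h10 := orderOf_dvd_iff_pow_eq_one.1 h
    rw [pow_two, vv] at h10
    exact f_ne_one h10
  have h10 : ¬ k ≤ 1 := by
    intro h
    apply h9
    rw [hk2]
    exact pow_dvd_pow 2 h
  have h11 : k = 2 := by omega
  rw [hk2, h11]
  norm_num

theorem v_sq : v ^ 2 = on .f := by rw [pow_two, vv]

theorem center_J {z : J} (hz : z ∈ center J) : (z : ON) ∈ zpowers v := by
  have hfin := finite_ON
  have hvc : (⟨v, vJ⟩ : J) ∈ center J := by
    rw [mem_center_iff]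
    intro g
    exact Subtype.ext (mem_J.1 g.2)
  have hle : zpowers (⟨v, vJ⟩ : J) ≤ center J := (zpowers_le).2 hvc
  have hcard : Nat.card (center J) ≤ Nat.card (zpowers (⟨v, vJ⟩ : J)) := by
    rw [Nat.card_zpowers, ← orderOf_coe, order_v, GTwoRows.ONQuot.card_center]
  have h1 : zpowers (⟨v, vJ⟩ : J) = center J := eq_of_le_of_card_ge hle hcard
  rw [← h1] at hz
  obtain ⟨i, hi⟩ := hz
  exact ⟨i, congrArg Subtype.val hi⟩

/-- the centraliser in `J` -/
theorem centJ {p : ℕ} (hp : p.Prime) (hp2 : p ≠ 2)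
    (hP : ∀ y : ONType.Psl.PSL3, orderOf y = p → Nat.card ↥(centralizer ({y} : Set ONType.Psl.PSL3)) = p)
    {x : ON} (hx : orderOf x = p) (hxJ : x ∈ J) {g : ON} (hg : g ∈ J) (hgx : g * x = x * g) :
    ∃ i j : ℕ, g = x ^ i * v ^ j := by
  have hfin := finite_ON
  have hfinP : Finite ONType.Psl.PSL3 := CpAut.SmallP.PslFour.finite_PSL3
  have hpF : Fact p.Prime := ⟨hp⟩
  obtain ⟨φ, hφ⟩ := H461.Cop.exists_phi
  let x' : J := ⟨x, hxJ⟩
  let g' : J := ⟨g, hg⟩
  have hx1 : φ x' ≠ 1 := by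
    intro h
    have h1 : x' ∈ φ.ker := h
    rw [hφ] at h1
    have h2 : x ∈ zpowers v := center_J h1
    have h3 : orderOf x ∣ 4 := by
      have := orderOf_dvd_natCard (⟨x, h2⟩ : zpowers v)
      rwa [← orderOf_coe, Nat.card_zpowers, order_v] at this
    rw [hx] at h3
    exact hp2 ((Nat.prime_dvd_prime_iff_eq hp Nat.prime_two).1 (hp.dvd_of_dvd_pow (n := 2) h3))
  have hx2 : orderOf (φ x') = p := by
    refine orderOf_eq_prime ?_ hx1
    rw [← map_pow]
    have : x' ^ p = 1 := Subtype.ext (by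
      have : x ^ p = 1 := by rw [← hx, pow_orderOf_eq_one]
      exact this)
    rw [this, map_one]
  have h1 : zpowers (φ x') = centralizer ({φ x'} : Set ONType.Psl.PSL3) := by
    refine eq_of_le_of_card_ge ((zpowers_le).2 (mem_cent.2 rfl)) ?_
    rw [hP _ hx2, Nat.card_zpowers, hx2]
  have h2 : φ g' ∈ zpowers (φ x') := by
    rw [h1, mem_cent, ← map_mul, ← map_mul]
    congr 1
    exact Subtype.ext hgx
  obtain ⟨i, hi⟩ := h2
  have hi' : φ x' ^ i = φ g' := hi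
  have h3 : (x' ^ i)⁻¹ * g' ∈ center J := by
    rw [← hφ, MonoidHom.mem_ker, map_mul, map_inv, map_zpow, hi', inv_mul_cancel]
  have h4 : (x ^ i)⁻¹ * g ∈ zpowers v := center_J h3
  obtain ⟨j, hj⟩ := h4
  have hj' : v ^ j = (x ^ i)⁻¹ * g := hj
  have h5 : ∀ (y : ON) (i : ℤ), ∃ n : ℕ, y ^ n = y ^ i := fun y i =>
    ((isOfFinOrder_of_finite y).mem_powers_iff_mem_zpowers).2 ⟨i, rfl⟩
  obtain ⟨a, ha⟩ := h5 x i
  obtain ⟨b, hb⟩ := h5 v j
  refine ⟨a, b, ?_⟩
  rw [ha, hb, hj', mul_inv_cancel_left]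

/-- elements of odd order of `K0` lie in `J` -/
theorem mem_J_of_odd {x : ON} (hx : x ∈ K0) {n : ℕ} (hn : Odd n) (hxn : x ^ n = 1) : x ∈ J := by
  have h1 : x * x ∈ J :=
    @Subgroup.mul_self_mem_of_index_two _ _ _ index_J ⟨x, hx⟩
  obtain ⟨k, hk⟩ := hn
  have h4 : x = (x * x) ^ (k + 1) := by
    rw [← pow_two, ← pow_mul, show 2 * (k + 1) = n + 1 by omega, pow_succ, hxn, one_mul]
  rw [h4]
  exact pow_mem h1 _

/-! ### order 7 -/

theorem loc_seven {x : ON} (hx : orderOf x = 7) (hxJ : x ∈ J) : Loc 7 x v := by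
  have hfin := finite_ON
  have hx7 : x ^ 7 = 1 := by rw [← hx, pow_orderOf_eq_one]
  have hx1 : x ≠ 1 := by
    rintro rfl
    rw [orderOf_one] at hx
    norm_num at hx
  refine ⟨by norm_num, by norm_num, hx, order_v, (mem_J.1 hxJ).symm, fun g hgx hgv => ?_⟩
  rw [v_sq] at hgv
  have hgK : g ∈ K0 := mem_K0.2 hgv
  -- `g ∈ J`
  obtain ⟨a, m, hm, hgm⟩ := Nat.exists_eq_two_pow_mul_odd (orderOf_pos g).ne'
  have h1 : g ^ m ∈ zpowers v := by
    refine CpAutON.Seven.two_K0 (n := a) hx7 hx1 (J_le hxJ) (K0.pow_mem hgK m)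
      ((show Commute g x from hgx).pow_left m).eq ?_
    rw [← pow_mul, mul_comm m, ← hgm, pow_orderOf_eq_one]
  have h2 : g ^ m ∈ J := (zpowers_le.2 vJ) h1
  have h3 : g * g ∈ J := @Subgroup.mul_self_mem_of_index_two _ _ _ index_J ⟨g, hgK⟩
  have hgJ : g ∈ J := by
    obtain ⟨k, hk⟩ := hm
    have h4 : g ^ m = (g * g) ^ k * g := by rw [hk, pow_succ, pow_mul, pow_two]
    rw [h4] at h2
    exact ((J.mul_mem_cancel_left (J.pow_mem h3 k)).1 h2)
  exact centJ (by norm_num) (by norm_num) (fun y hy => BpSpor.LFour.card_seven hy) hx hxJ hgJ hgx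

/-! ### order 5 -/

/-- the order of the centraliser in `J` of an element of order 5 -/
theorem card_centJ_five {x : ON} (hx : orderOf x = 5) (hxJ : x ∈ J) :
    Nat.card ↥(centralizer ({(⟨x, hxJ⟩ : J)} : Set J)) = 20 := by
  have hfin := finite_ON
  let X : J := ⟨x, hxJ⟩
  let V : J := ⟨v, vJ⟩
  have hX : orderOf X = 5 := by rw [← orderOf_coe]; exact hx
  have hV : orderOf V = 4 := by rw [← orderOf_coe]; exact order_v
  have hXV : Commute X V := Subtype.ext (mem_J.1 hxJ)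
  have hmemX : X ∈ centralizer ({X} : Set J) := mem_cent.2 rfl
  have hmemV : V ∈ centralizer ({X} : Set J) := mem_cent.2 hXV.symm
  have hle : Nat.card ↥(centralizer ({X} : Set J)) ≤ 20 := by
    let f : Fin 5 × Fin 4 → ↥(centralizer ({X} : Set J)) := fun ij =>
      ⟨X ^ (ij.1 : ℕ) * V ^ (ij.2 : ℕ), mul_mem (pow_mem hmemX _) (pow_mem hmemV _)⟩
    have hf : Function.Surjective f := by
      rintro ⟨g, hg⟩
      obtain ⟨i, j, hij⟩ := centJ (by norm_num) (by norm_num) (fun y hy => BpSpor.LFour.card_five hy) hx hxJ g.2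
        (congrArg Subtype.val (mem_cent.1 hg))
      refine ⟨(⟨i % 5, Nat.mod_lt _ (by norm_num)⟩, ⟨j % 4, Nat.mod_lt _ (by norm_num)⟩), ?_⟩
      apply Subtype.ext
      apply Subtype.ext
      change x ^ (i % 5) * v ^ (j % 4) = g
      rw [hij]
      nth_rewrite 1 [← hx]
      nth_rewrite 1 [← order_v]
      rw [pow_mod_orderOf, pow_mod_orderOf]
    have h1 := Nat.card_le_card_of_surjective f hf
    simpa using h1
  have h5 : 5 ∣ Nat.card ↥(centralizer ({X} : Set J)) := by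
    have := orderOf_dvd_natCard (⟨X, hmemX⟩ : ↥(centralizer ({X} : Set J)))
    rwa [← orderOf_coe, hX] at this
  have h4 : 4 ∣ Nat.card ↥(centralizer ({X} : Set J)) := by
    have := orderOf_dvd_natCard (⟨V, hmemV⟩ : ↥(centralizer ({X} : Set J)))
    rwa [← orderOf_coe, hV] at this
  have h20 : 20 ∣ Nat.card ↥(centralizer ({X} : Set J)) :=
    Nat.Coprime.mul_dvd_of_dvd_of_dvd (by norm_num : Nat.Coprime 5 4) h5 h4
  exact le_antisymm hle (Nat.le_of_dvd Nat.card_pos h20)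

theorem no_square {x y : ON} (hx : orderOf x = 5) (hxJ : x ∈ J) (hyJ : y ∈ J) (h : y * x * y⁻¹ = x ^ 2) : False := by
  have hfin := finite_ON
  have h5 : Fact (Nat.Prime 5) := ⟨by norm_num⟩
  have hX : orderOf (⟨x, hxJ⟩ : J) = 5 := by rw [← orderOf_coe]; exact hx
  obtain ⟨n, hn, hcard⟩ := CpAutON.Gen.card_eq (G := J) (p := 5) (by rw [card_J]; norm_num) hX
  have h1 : 4 ∣ Nat.card ↥((zpowers (⟨x, hxJ⟩ : J)).normalizerMonoidHom).range :=
    four_dvd_range (Y := ⟨y, hyJ⟩) hX (Subtype.ext h)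
  have h2 := range_dvd hX
  have h3 : Nat.card ↥((zpowers (⟨x, hxJ⟩ : J)).normalizerMonoidHom).range = 4 := Nat.dvd_antisymm h2 h1
  rw [h3, card_centJ_five hx hxJ, card_J] at hcard
  omega

/-- an element of order 5 -/
def x5 : ON := w [.b, .c, .d, .g]

/-- it squares `x5` -/
def y5 : ON := w [.c, .d, .b, .c, .a, .b, .g, .c, .d, .b, .c]

theorem x5_mem : x5 ∈ K0 := w_mem (by decide)
theorem y5_mem : y5 ∈ K0 := w_mem (by decide)

theorem x5_sq : w [.b, .c, .d, .g, .b, .c, .d, .g] = x5 ^ 2 := by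
  rw [pow_two, x5, ← w_append]
  rfl

theorem x5_pow : x5 ^ 5 = 1 := by
  have h : w [.b, .c, .d, .g, .b, .c, .d, .g, .b, .c, .d, .g, .b, .c, .d, .g, .b, .c, .d, .g] = w [] :=
    Cfsg.Agent.KFacts.ON.Words.eq _ _ (by decide +kernel)
  have h1 : w [.b, .c, .d, .g, .b, .c, .d, .g, .b, .c, .d, .g, .b, .c, .d, .g, .b, .c, .d, .g] =
      x5 * (x5 * (x5 * (x5 * x5))) := by
    rw [x5, ← w_append, ← w_append, ← w_append, ← w_append]
    rfl
  rw [h1] at h
  have h2 : w [] = (1 : ON) := rfl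
  rw [h2] at h
  rw [← h]
  simp only [pow_succ, pow_zero, one_mul, mul_assoc]

theorem y5_conj : y5 * x5 * y5⁻¹ = x5 ^ 2 := by
  rw [← x5_sq]
  exact Cfsg.Agent.KFacts.ON.Words.conj _ _ _ (by decide +kernel)

theorem x5_ne : x5 ≠ 1 := by
  intro h
  have h1 : w [.b, .c, .d, .g] = 1 := h
  have h2 : Cfsg.Agent.ONType.TupRow.neJ [6, 0, 1, 2] [] = true := by decide +kernel
  have h3 := Cfsg.Agent.ONType.TupRow.neJ_spec h2
  simp only [SporadicRecognition.CosetCert.ev_cons, SporadicRecognition.CosetCert.ev_nil, mul_one] at h3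
  have h4 : w [.b, .c, .d, .g] = on .b * (on .c * (on .d * on .g)) := by
    rw [w_cons, w_cons, w_cons, w_one]
  exact h3 (h4.symm.trans h1)

theorem order_x5 : orderOf x5 = 5 := by
  have : Fact (Nat.Prime 5) := ⟨by norm_num⟩
  exact orderOf_eq_prime x5_pow x5_ne

/-- every element of order 5 of `K0` is squared by an element of `K0` -/
theorem exists_square {x : ON} (hx : orderOf x = 5) (hxK : x ∈ K0) : ∃ y ∈ K0, y * x * y⁻¹ = x ^ 2 := by
  have := finite_ON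
  have h5 : Fact (Nat.Prime 5) := ⟨by norm_num⟩
  have h1 : orderOf (⟨x, hxK⟩ : K0) = 5 := by
    rw [← Subgroup.orderOf_coe]; exact hx
  have h2 : orderOf (⟨x5, x5_mem⟩ : K0) = 5 := by
    rw [← Subgroup.orderOf_coe]; exact order_x5
  obtain ⟨g, hg⟩ := CpAutON.Gen.conj_into (G := K0) (p := 5) (by rw [card_K0]; norm_num) h1 h2
  obtain ⟨n, hn⟩ := mem_zpowers_iff.1 hg
  have hn' : x5 ^ n = (g : ON) * x * (g : ON)⁻¹ := congrArg Subtype.val hn
  refine ⟨(g : ON)⁻¹ * y5 * g, K0.mul_mem (K0.mul_mem (K0.inv_mem g.2) y5_mem) g.2, ?_⟩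
  have h3 : y5 * x5 ^ n * y5⁻¹ = (x5 ^ n) ^ 2 := by
    rw [← conj_zpow, y5_conj, ← zpow_natCast, ← zpow_natCast, ← zpow_mul, ← zpow_mul, mul_comm]
  calc (g : ON)⁻¹ * y5 * g * x * ((g : ON)⁻¹ * y5 * g)⁻¹ = (g : ON)⁻¹ * (y5 * ((g : ON) * x * (g : ON)⁻¹) * y5⁻¹) * g := by
        group
    _ = (g : ON)⁻¹ * ((g : ON) * x * (g : ON)⁻¹) ^ 2 * g := by rw [← hn', h3]
    _ = x ^ 2 := by rw [conj_pow]; group

theorem loc_five {x : ON} (hx : orderOf x = 5) (hxJ : x ∈ J) : Loc 5 x v := by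
  have hfin := finite_ON
  refine ⟨by norm_num, by norm_num, hx, order_v, (mem_J.1 hxJ).symm, fun g hgx hgv => ?_⟩
  rw [v_sq] at hgv
  have hgK : g ∈ K0 := mem_K0.2 hgv
  have hgJ : g ∈ J := by
    by_contra hgJ
    obtain ⟨y, hyK, hy⟩ := exists_square hx (J_le hxJ)
    by_cases hyJ : y ∈ J
    · exact no_square hx hxJ hyJ hy
    · have h1 : y * g ∈ J := by
        have h2 := @Subgroup.mul_mem_iff_of_index_two _ _ _ index_J ⟨y, hyK⟩ ⟨g, hgK⟩
        have h3 : (⟨y, hyK⟩ : K0) * ⟨g, hgK⟩ ∈ J.subgroupOf K0 := h2.2 ⟨fun h => absurd h hyJ, fun h => absurd h hgJ⟩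
        exact h3
      refine no_square hx hxJ h1 ?_
      calc y * g * x * (y * g)⁻¹ = y * (g * x) * g⁻¹ * y⁻¹ := by group
        _ = y * x * y⁻¹ := by rw [hgx]; group
        _ = x ^ 2 := hy
  exact centJ (by norm_num) (by norm_num) (fun y hy => BpSpor.LFour.card_five hy) hx hxJ hgJ hgx

end Cfsg.Agent.H474.ONC
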