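import Cfsg.Agent.H474.ONC.Loc
import Cfsg.Agent.BpSpor.ONanThree
import Cfsg.Agent.H729.PairON
import Cfsg.Agent.H389.JFacts

/-!
# Elements of order 11 and 19 of the O'Nan group generate their own centralisers (helper474)
-/

set_option autoImplicit false
set_option maxRecDepth 100000

namespace Cfsg.Agent.H474.ONC

open Subgroup Cfsg
open Cfsg.Spor (ON)
open Cfsg.Agent.SporadicB.ON45Word (on)
open Cfsg.Agent.KFacts.ON.Words (vv v)
open Cfsg.Agent.KFacts.ON.Struct
open Cfsg.Agent.KFacts.ON.Cent (hON finite_ON cen card_K0)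
open Cfsg.Agent.ONType.TupK (K0)

theorem card_ON : Nat.card ON = 460815505920 := BpSpor.ONanThree.card_ON

/-! ### generic -/

section

variable {G : Type*} [Group G] [Finite G]

/-- centralisers of elements of order `p`, `p² ∤ |G|` -/
theorem card_cent_eq {p : ℕ} [hp : Fact p.Prime] (h2 : ¬ p ^ 2 ∣ Nat.card G) {x y : G} (hx : orderOf x = p)
    (hy : orderOf y = p) :
    Nat.card ↥(centralizer ({x} : Set G)) = Nat.card ↥(centralizer ({y} : Set G)) := by
  obtain ⟨g, hg⟩ := CpAutON.Gen.conj_into h2 hx hy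
  obtain ⟨z, hz⟩ : ∃ z, z = g * x * g⁻¹ := ⟨_, rfl⟩
  rw [← hz] at hg
  have hzo : orderOf z = p := by
    rw [hz, ← hx]
    exact orderOf_injective (MulAut.conj g).toMonoidHom (MulAut.conj g).injective x
  have h1 : zpowers z = zpowers y := by
    refine eq_of_le_of_card_ge ((zpowers_le).2 hg) ?_
    rw [Nat.card_zpowers, Nat.card_zpowers, hy, hzo]
  have h3 : centralizer ({z} : Set G) = centralizer ({y} : Set G) := by
    rw [← centralizer_closure ({z} : Set G), ← centralizer_closure ({y} : Set G), ← zpowers_eq_closure,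
      ← zpowers_eq_closure, h1]
  rw [← h3]
  refine Nat.card_congr ⟨fun a => ⟨g * a * g⁻¹, ?_⟩, fun a => ⟨g⁻¹ * a * g, ?_⟩, fun a => ?_, fun a => ?_⟩
  · rw [mem_cent, hz]
    have := mem_cent.1 a.2
    calc g * a * g⁻¹ * (g * x * g⁻¹) = g * (a * x) * g⁻¹ := by group
      _ = g * (x * a) * g⁻¹ := by rw [this]
      _ = _ := by group
  · rw [mem_cent]
    have h4 := mem_cent.1 a.2
    have e : g * x * g⁻¹ = z := hz.symm
    calc g⁻¹ * a * g * x = g⁻¹ * (a * (g * x * g⁻¹)) * g := by group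
      _ = g⁻¹ * (z * a) * g := by rw [e, h4]
      _ = g⁻¹ * ((g * x * g⁻¹) * a) * g := by rw [e]
      _ = _ := by group
  · apply Subtype.ext
    change g⁻¹ * (g * (a : G) * g⁻¹) * g = a
    group
  · apply Subtype.ext
    change g * (g⁻¹ * (a : G) * g) * g⁻¹ = a
    group

theorem even_dvd {n q k : ℕ} (hq : q.Prime) (hn : n ≠ 0) (he : Even (n.factorization q)) (h : q ^ (2 * k + 1) ∣ n) :
    q ^ (2 * k + 2) ∣ n := by
  rw [hq.pow_dvd_iff_le_factorization hn] at h ⊢
  rcases he with ⟨m, hm⟩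
  omega

theorem odd_dvd {n q k : ℕ} (hq : q.Prime) (hn : n ≠ 0) (he : Odd (n.factorization q)) (h : q ^ (2 * k) ∣ n) :
    q ^ (2 * k + 1) ∣ n := by
  rw [hq.pow_dvd_iff_le_factorization hn] at h ⊢
  rcases he with ⟨m, hm⟩
  omega

/-- an element of prime order `q` in the centraliser -/
theorem exists_comm {x : G} {q : ℕ} (hq : q.Prime) (h : q ∣ Nat.card ↥(centralizer ({x} : Set G))) :
    ∃ y : G, orderOf y = q ∧ y * x = x * y := by
  have : Fact q.Prime := ⟨hq⟩
  obtain ⟨y, hy⟩ := exists_prime_orderOf_dvd_card' q h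
  exact ⟨y, by rw [orderOf_coe]; exact hy, mem_cent.1 y.2⟩

omit [Finite G] in
theorem dvd_cent {x y : G} (h : y * x = x * y) : orderOf y ∣ Nat.card ↥(centralizer ({x} : Set G)) := by
  have := orderOf_dvd_natCard (⟨y, mem_cent.2 h⟩ : ↥(centralizer ({x} : Set G)))
  rwa [← orderOf_coe] at this

end

/-- divisors of `|ON|` -/
theorem shape {n : ℕ} (h : n ∣ 460815505920) : ∃ a b c d e f g : ℕ, a ≤ 9 ∧ b ≤ 4 ∧ c ≤ 1 ∧ d ≤ 3 ∧ e ≤ 1 ∧ f ≤ 1 ∧
    g ≤ 1 ∧ n = 2 ^ a * (3 ^ b * (5 ^ c * (7 ^ d * (11 ^ e * (19 ^ f * 31 ^ g))))) := by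
  rw [show 460815505920 = 2 ^ 9 * (3 ^ 4 * (5 ^ 1 * (7 ^ 3 * (11 ^ 1 * (19 ^ 1 * 31 ^ 1))))) by norm_num] at h
  obtain ⟨n1, m1, h1, k1, rfl⟩ := (Nat.dvd_mul).1 h
  obtain ⟨n2, m2, h2, k2, rfl⟩ := (Nat.dvd_mul).1 k1
  obtain ⟨n3, m3, h3, k3, rfl⟩ := (Nat.dvd_mul).1 k2
  obtain ⟨n4, m4, h4, k4, rfl⟩ := (Nat.dvd_mul).1 k3
  obtain ⟨n5, m5, h5, k5, rfl⟩ := (Nat.dvd_mul).1 k4
  obtain ⟨n6, m6, h6, k6, rfl⟩ := (Nat.dvd_mul).1 k5
  obtain ⟨a, ha, rfl⟩ := (Nat.dvd_prime_pow (by norm_num)).1 h1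
  obtain ⟨b, hb, rfl⟩ := (Nat.dvd_prime_pow (by norm_num)).1 h2
  obtain ⟨c, hc, rfl⟩ := (Nat.dvd_prime_pow (by norm_num)).1 h3
  obtain ⟨d, hd, rfl⟩ := (Nat.dvd_prime_pow (by norm_num)).1 h4
  obtain ⟨e, he, rfl⟩ := (Nat.dvd_prime_pow (by norm_num)).1 h5
  obtain ⟨f, hf, rfl⟩ := (Nat.dvd_prime_pow (by norm_num)).1 h6
  obtain ⟨g, hg, rfl⟩ := (Nat.dvd_prime_pow (by norm_num)).1 k6
  exact ⟨a, b, c, d, e, f, g, ha, hb, hc, hd, he, hf, hg, rfl⟩

theorem cent_dvd (x : ON) : Nat.card ↥(centralizer ({x} : Set ON)) ∣ 460815505920 := by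
  rw [← card_ON]
  exact card_subgroup_dvd_card _

/-! ### order 7 -/

/-- an element of order 7 -/
abbrev x7 : ON := CpAutON.Seven.x0

theorem order_x7 : orderOf x7 = 7 := by
  have : Fact (Nat.Prime 7) := ⟨by norm_num⟩
  exact orderOf_eq_prime CpAutON.Seven.x0_pow CpAutON.Seven.x0_ne

theorem loc7 : Loc 7 x7 v := loc_seven order_x7 (mem_J_of_odd CpAutON.Seven.x0_mem (by decide : Odd 7) CpAutON.Seven.x0_pow)

theorem loc5 : Loc 5 x5 v := by
  have := finite_ON
  exact loc_five order_x5 (mem_J_of_odd x5_mem (by decide : Odd 5) x5_pow)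

theorem no_prime {p : ℕ} {x u : ON} [Finite ON] (h : Loc p x u) {q : ℕ} (hq : q.Prime) (hq4 : q % 4 = 3) (hqp : q ≠ p)
    (hd : ¬ q ^ 2 ∣ 460815505920) : ¬ q ∣ Nat.card ↥(centralizer ({x} : Set ON)) := by
  intro h1
  have h2 := even_dvd (k := 0) hq Nat.card_pos.ne' (h.even_fac hq hq4 hqp) (by simpa using h1)
  exact hd (h2.trans (cent_dvd x))

theorem n7_11 : ¬ 11 ∣ Nat.card ↥(centralizer ({x7} : Set ON)) := by
  have := finite_ON
  exact no_prime loc7 (by norm_num) (by norm_num) (by norm_num) (by norm_num)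

theorem n7_19 : ¬ 19 ∣ Nat.card ↥(centralizer ({x7} : Set ON)) := by
  have := finite_ON
  exact no_prime loc7 (by norm_num) (by norm_num) (by norm_num) (by norm_num)

theorem n7_31 : ¬ 31 ∣ Nat.card ↥(centralizer ({x7} : Set ON)) := by
  have := finite_ON
  exact no_prime loc7 (by norm_num) (by norm_num) (by norm_num) (by norm_num)

theorem card_sylow_seven (P : Sylow 7 ON) : Nat.card P = 343 := by
  have h7 : Fact (Nat.Prime 7) := ⟨by norm_num⟩
  have hfin := finite_ON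
  have hfac : (Nat.card ON).factorization 7 = 3 := by
    rw [card_ON, show (460815505920 : ℕ) = 7 ^ 3 * 1343485440 by norm_num,
      Nat.factorization_mul (by norm_num) (by norm_num), Finsupp.add_apply,
      Nat.factorization_eq_zero_of_not_dvd (by norm_num : ¬ 7 ∣ 1343485440),
      Nat.Prime.factorization_pow (by norm_num)]
    simp
  have h := P.card_eq_multiplicity
  rw [hfac] at h
  norm_num at h
  exact h

theorem n7_49 : 49 ∣ Nat.card ↥(centralizer ({x7} : Set ON)) := by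
  have h7 : Fact (Nat.Prime 7) := ⟨by norm_num⟩
  have hfin := finite_ON
  by_contra hno
  have hP0 : IsPGroup 7 ↥(zpowers x7) := IsPGroup.of_card (n := 1) (by rw [Nat.card_zpowers, order_x7, pow_one])
  obtain ⟨P, hP⟩ := hP0.exists_le_sylow
  have hxP : x7 ∈ (P : Subgroup ON) := hP (mem_zpowers _)
  have hPc := card_sylow_seven P
  have hnt : Nontrivial ↥(P : Subgroup ON) := by
    apply (Finite.one_lt_card_iff_nontrivial).1
    have h1 : Nat.card ↥(P : Subgroup ON) = 343 := hPc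
    rw [h1]
    norm_num
  have hZ : Nontrivial ↥(center ↥(P : Subgroup ON)) := P.isPGroup'.center_nontrivial
  obtain ⟨z, hz1⟩ := exists_ne (1 : ↥(center ↥(P : Subgroup ON)))
  obtain ⟨u, hu⟩ : ∃ u : ON, u = ((z : ↥(P : Subgroup ON)) : ON) := ⟨_, rfl⟩
  have huP : u ∈ (P : Subgroup ON) := by rw [hu]; exact (z : ↥(P : Subgroup ON)).2
  have hu1 : u ≠ 1 := by
    intro h
    apply hz1
    apply Subtype.ext
    apply Subtype.ext
    rw [← hu, h]
    rfl
  have huc : ∀ g ∈ (P : Subgroup ON), g * u = u * g := by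
    intro g hg
    rw [hu]
    exact congrArg Subtype.val (mem_center_iff.1 z.2 ⟨g, hg⟩)
  -- the centraliser in `P`
  obtain ⟨D, hD⟩ : ∃ D : Subgroup ON, D = (P : Subgroup ON) ⊓ centralizer ({x7} : Set ON) := ⟨_, rfl⟩
  have hDP : Nat.card D ∣ 7 ^ 3 := by
    have h1 : Nat.card D ∣ Nat.card P := by
      rw [hD]
      exact card_dvd_of_le inf_le_left
    rw [hPc] at h1
    exact h1
  have hDn : Nat.card D ∣ Nat.card ↥(centralizer ({x7} : Set ON)) := by
    rw [hD]
    exact card_dvd_of_le inf_le_right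
  obtain ⟨k, -, hk⟩ := (Nat.dvd_prime_pow (by norm_num : Nat.Prime 7)).1 hDP
  have hk1 : k ≤ 1 := by
    by_contra hc
    apply hno
    have h1 : 7 ^ 2 ∣ 7 ^ k := pow_dvd_pow 7 (by omega)
    rw [hk] at hDn
    exact (by norm_num : 49 ∣ 7 ^ 2).trans (h1.trans hDn)
  have hDx : zpowers x7 = D := by
    refine eq_of_le_of_card_ge ?_ ?_
    · rw [zpowers_le, hD]
      exact ⟨hxP, mem_cent.2 rfl⟩
    · rw [Nat.card_zpowers, order_x7, hk]
      calc 7 ^ k ≤ 7 ^ 1 := Nat.pow_le_pow_right (by norm_num) hk1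
        _ = 7 := by norm_num
  have huD : u ∈ D := by
    rw [hD]
    exact ⟨huP, mem_cent.2 (huc x7 hxP).symm⟩
  rw [← hDx] at huD
  have hux : zpowers u = zpowers x7 := by
    have h1 : Nat.card ↥(zpowers u) ∣ 7 := by
      have := card_dvd_of_le ((zpowers_le).2 huD)
      rwa [Nat.card_zpowers x7, order_x7] at this
    have h2 : Nat.card ↥(zpowers u) ≠ 1 := by
      rw [Nat.card_zpowers]
      intro h
      exact hu1 (orderOf_eq_one_iff.1 h)
    have h3 : Nat.card ↥(zpowers u) = 7 := ((Nat.dvd_prime (by norm_num)).1 h1).resolve_left h2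
    refine eq_of_le_of_card_ge ((zpowers_le).2 huD) ?_
    rw [h3, Nat.card_zpowers, order_x7]
  have hle : (P : Subgroup ON) ≤ centralizer ({x7} : Set ON) := by
    intro g hg
    rw [mem_cent]
    have h1 : x7 ∈ zpowers u := by rw [hux]; exact mem_zpowers _
    obtain ⟨i, hi⟩ := h1
    have hi' : u ^ i = x7 := hi
    rw [← hi']
    exact ((show Commute g u from huc g hg).zpow_right i).eq
  apply hno
  have h1 := card_dvd_of_le hle
  have h2 : Nat.card ↥(P : Subgroup ON) = 343 := hPc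
  rw [h2] at h1
  exact (by norm_num : 49 ∣ 343).trans h1

theorem n7_343 : 343 ∣ Nat.card ↥(centralizer ({x7} : Set ON)) := by
  have hfin := finite_ON
  exact odd_dvd (q := 7) (k := 1) (by norm_num) Nat.card_pos.ne' (loc7.odd_fac (by norm_num)) n7_49

/-- every subgroup of order 49 contains a conjugate of `x7` -/
theorem exists_conj {B : Subgroup ON} (hB : Nat.card B = 49) : ∃ g : ON, g * x7 * g⁻¹ ∈ B := by
  have h7 : Fact (Nat.Prime 7) := ⟨by norm_num⟩
  have hfin := finite_ON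
  obtain ⟨Q, hQ⟩ := Sylow.exists_subgroup_card_pow_prime (G := ↥(centralizer ({x7} : Set ON))) 7 (n := 3) n7_343
  obtain ⟨P, hP⟩ : ∃ P : Subgroup ON, P = Q.map (centralizer ({x7} : Set ON)).subtype := ⟨_, rfl⟩
  have hPc : Nat.card P = 343 := by
    rw [hP, card_map_of_injective (subtype_injective _), hQ]
    norm_num
  have hPC : ∀ g ∈ P, g * x7 = x7 * g := by
    intro g hg
    rw [hP] at hg
    obtain ⟨q, -, rfl⟩ := hg
    exact mem_cent.1 q.2
  obtain ⟨P1, hP1⟩ := (IsPGroup.of_card (p := 7) (n := 3) (G := P) (by rw [hPc]; norm_num)).exists_le_sylow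
  have hPe : P = (P1 : Subgroup ON) := by
    refine eq_of_le_of_card_ge hP1 ?_
    have := card_sylow_seven P1
    rw [hPc]
    exact this.le
  obtain ⟨Q1, hQ1⟩ := (IsPGroup.of_card (p := 7) (n := 2) (G := B) (by rw [hB]; norm_num)).exists_le_sylow
  obtain ⟨g, hg⟩ := MulAction.exists_smul_eq ON P1 Q1
  refine ⟨g, ?_⟩
  have hQg : ∀ b ∈ (Q1 : Subgroup ON), ∃ a ∈ P, b = g * a * g⁻¹ := by
    intro b hb
    rw [← hg] at hb
    obtain ⟨a, ha, hab⟩ := hb
    exact ⟨a, hPe ▸ ha, hab.symm⟩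
  have hBc : ∀ b ∈ B, b * (g * x7 * g⁻¹) = (g * x7 * g⁻¹) * b := by
    intro b hb
    obtain ⟨a, ha, rfl⟩ := hQg b (hQ1 hb)
    have := hPC a ha
    calc g * a * g⁻¹ * (g * x7 * g⁻¹) = g * (a * x7) * g⁻¹ := by group
      _ = g * (x7 * a) * g⁻¹ := by rw [this]
      _ = _ := by group
  by_contra hno
  obtain ⟨y, hy⟩ : ∃ y, y = g * x7 * g⁻¹ := ⟨_, rfl⟩
  rw [← hy] at hno hBc
  have hyo : orderOf y = 7 := by
    rw [hy, ← order_x7]
    exact orderOf_injective (MulAut.conj g).toMonoidHom (MulAut.conj g).injective x7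
  have hBab : ∀ a ∈ B, ∀ b ∈ B, a * b = b * a := by
    intro a ha b hb
    have h1 := IsPGroup.isMulCommutative_of_card_eq_prime_sq (p := 7) (G := B) (by rw [hB]; norm_num)
    exact congrArg Subtype.val (h1.is_comm.comm ⟨a, ha⟩ ⟨b, hb⟩)
  obtain ⟨E, hE⟩ : ∃ E : Subgroup ON, E = B ⊔ zpowers y := ⟨_, rfl⟩
  have hE1 : E ≤ centralizer (B : Set ON) ⊓ centralizer ({y} : Set ON) := by
    rw [hE]
    refine sup_le (le_inf ?_ ?_) (le_inf ?_ ?_)
    · intro a ha
      rw [mem_centralizer_iff]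
      intro b hb
      exact hBab b hb a ha
    · intro a ha
      exact mem_cent.2 (hBc a ha)
    · rw [zpowers_le, mem_centralizer_iff]
      intro b hb
      exact hBc b hb
    · rw [zpowers_le]
      exact mem_cent.2 rfl
  have hEc : ∀ a ∈ E, ∀ b ∈ E, a * b = b * a := by
    have h1 : E ≤ centralizer (E : Set ON) := by
      conv_lhs => rw [hE]
      refine sup_le ?_ ?_
      · intro b hb
        rw [mem_centralizer_iff]
        intro e he
        exact ((mem_centralizer_iff.1 (hE1 he).1) b hb).symm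
      · rw [zpowers_le, mem_centralizer_iff]
        intro e he
        exact mem_cent.1 (hE1 he).2
    intro a ha b hb
    exact (mem_centralizer_iff.1 (h1 hb)) a ha
  have hEp : IsPGroup 7 ↥E := by
    rw [hE]
    refine IsPGroup.to_sup_of_normal_right' (IsPGroup.of_card (n := 2) (by rw [hB]; norm_num))
      (IsPGroup.of_card (n := 1) (by rw [Nat.card_zpowers, hyo, pow_one])) ?_
    intro b hb
    apply mem_normalizer_of_conj
    rw [hBc b hb, mul_inv_cancel_right]
    exact mem_zpowers y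
  obtain ⟨k, hk⟩ := IsPGroup.iff_card.1 hEp
  have hk3 : k ≤ 3 := by
    obtain ⟨R, hR⟩ := hEp.exists_le_sylow
    have h1 := card_dvd_of_le hR
    have h2 : Nat.card ↥(R : Subgroup ON) = 343 := card_sylow_seven R
    rw [h2, hk, show 343 = 7 ^ 3 by norm_num] at h1
    exact (Nat.pow_dvd_pow_iff_le_right (by norm_num)).1 h1
  have hk2 : 2 < k := by
    by_contra hc
    have h1 : B = E := by
      refine eq_of_le_of_card_ge (by rw [hE]; exact le_sup_left) ?_
      rw [hB, hk]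
      calc 7 ^ k ≤ 7 ^ 2 := Nat.pow_le_pow_right (by norm_num) (by omega)
        _ = 49 := by norm_num
    apply hno
    rw [h1, hE]
    exact (le_sup_right : zpowers y ≤ _) (mem_zpowers y)
  have hk' : k = 3 := by omega
  rw [hk'] at hk
  exact BpSpor.ONanThree.not_abelian hk hEc

/-- if `49` divides the order of `C(y)`, then `x7` commutes with a conjugate of `y` -/
theorem dvd_n7 {y : ON} (h : 49 ∣ Nat.card ↥(centralizer ({y} : Set ON))) :
    orderOf y ∣ Nat.card ↥(centralizer ({x7} : Set ON)) := by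
  have h7 : Fact (Nat.Prime 7) := ⟨by norm_num⟩
  have hfin := finite_ON
  obtain ⟨B, hB⟩ := Sylow.exists_subgroup_card_pow_prime (G := ↥(centralizer ({y} : Set ON))) 7 (n := 2) h
  obtain ⟨g, hg⟩ := exists_conj (B := B.map (centralizer ({y} : Set ON)).subtype) (by
    rw [card_map_of_injective (subtype_injective _), hB]
    norm_num)
  obtain ⟨b, -, hb⟩ := hg
  have h1 : (b : ON) * y = y * b := mem_cent.1 b.2
  have h2 : (b : ON) = g * x7 * g⁻¹ := hb
  rw [h2] at h1
  have h3 : (g⁻¹ * y * g) * x7 = x7 * (g⁻¹ * y * g) := by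
    calc (g⁻¹ * y * g) * x7 = g⁻¹ * (y * (g * x7 * g⁻¹)) * g := by group
      _ = g⁻¹ * (g * x7 * g⁻¹ * y) * g := by rw [h1]
      _ = _ := by group
  have h4 := dvd_cent h3
  have h5 : orderOf (g⁻¹ * y * g) = orderOf y := by
    have := orderOf_injective (MulAut.conj g⁻¹).toMonoidHom (MulAut.conj g⁻¹).injective y
    have e : (MulAut.conj g⁻¹).toMonoidHom y = g⁻¹ * y * g := by
      change g⁻¹ * y * g⁻¹⁻¹ = _
      rw [inv_inv]
    rwa [e] at this
  rwa [h5] at h4

/-! ### order 5 -/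

theorem no_sq_five : ¬ 5 ^ 2 ∣ Nat.card ON := by rw [card_ON]; norm_num

theorem n5_343 : ¬ 343 ∣ Nat.card ↥(centralizer ({x5} : Set ON)) := by
  have hfin := finite_ON
  intro h
  have h1 := even_dvd (q := 7) (k := 1) (by norm_num) Nat.card_pos.ne' (loc5.even_fac (q := 7) (by norm_num)
    (by norm_num) (by norm_num)) h
  exact absurd (h1.trans (cent_dvd x5)) (by norm_num)

theorem n7_5 : ¬ 5 ∣ Nat.card ↥(centralizer ({x7} : Set ON)) := by
  have h5 : Fact (Nat.Prime 5) := ⟨by norm_num⟩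
  have hfin := finite_ON
  intro h
  obtain ⟨M, hM, hMn, hodd, hcard, hmem⟩ := loc7.exists_compl
  obtain ⟨y, hyo, hyc⟩ := exists_comm (by norm_num : Nat.Prime 5) h
  have hyM : y ∈ M := hmem y (mem_cent.2 hyc) (by rw [hyo]; decide)
  have h1 := loc7.comm_of hM hMn hodd hyM (r := 5) (by norm_num) (by rw [← hyo, pow_orderOf_eq_one])
  have h2 : M ≤ centralizer ({y} : Set ON) := fun m hm => mem_cent.2 (h1 m hm).symm
  have h3 : 343 ∣ Nat.card M := by
    have h4 := n7_343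
    rw [hcard] at h4
    exact Nat.Coprime.dvd_of_dvd_mul_left (by norm_num : Nat.Coprime 343 4) h4
  have h4 : Nat.card ↥(centralizer ({y} : Set ON)) = Nat.card ↥(centralizer ({x5} : Set ON)) :=
    card_cent_eq no_sq_five hyo order_x5
  apply n5_343
  rw [← h4]
  exact h3.trans (card_dvd_of_le h2)

theorem card_cent_x5 : Nat.card ↥(centralizer ({x5} : Set ON)) = 180 := by
  have h5 : Fact (Nat.Prime 5) := ⟨by norm_num⟩
  have hfin := finite_ON
  obtain ⟨M, hM, hMn, hodd, hcard, hmem⟩ := loc5.exists_compl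
  have h49 : ¬ 49 ∣ Nat.card ↥(centralizer ({x5} : Set ON)) := by
    intro h
    have := dvd_n7 h
    rw [order_x5] at this
    exact n7_5 this
  have h7 : ¬ 7 ∣ Nat.card ↥(centralizer ({x5} : Set ON)) := by
    intro h
    exact h49 (even_dvd (q := 7) (k := 0) (by norm_num) Nat.card_pos.ne' (loc5.even_fac (q := 7) (by norm_num)
      (by norm_num) (by norm_num)) (by simpa using h))
  have h11 : ¬ 11 ∣ Nat.card ↥(centralizer ({x5} : Set ON)) :=
    no_prime loc5 (by norm_num) (by norm_num) (by norm_num) (by norm_num)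
  have h19 : ¬ 19 ∣ Nat.card ↥(centralizer ({x5} : Set ON)) :=
    no_prime loc5 (by norm_num) (by norm_num) (by norm_num) (by norm_num)
  have h31 : ¬ 31 ∣ Nat.card ↥(centralizer ({x5} : Set ON)) :=
    no_prime loc5 (by norm_num) (by norm_num) (by norm_num) (by norm_num)
  have h3a : 3 ∣ Nat.card ↥(centralizer ({x5} : Set ON)) → 9 ∣ Nat.card ↥(centralizer ({x5} : Set ON)) := fun h =>
    even_dvd (q := 3) (k := 0) (by norm_num) Nat.card_pos.ne' (loc5.even_fac (q := 3) (by norm_num)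
      (by norm_num) (by norm_num)) (by simpa using h)
  have h3b : 27 ∣ Nat.card ↥(centralizer ({x5} : Set ON)) → 81 ∣ Nat.card ↥(centralizer ({x5} : Set ON)) := fun h =>
    even_dvd (q := 3) (k := 1) (by norm_num) Nat.card_pos.ne' (loc5.even_fac (q := 3) (by norm_num)
      (by norm_num) (by norm_num)) (by simpa using h)
  have h5' : 5 ∣ Nat.card ↥(centralizer ({x5} : Set ON)) := by
    have := dvd_cent (x := x5) (y := x5) rfl
    rwa [order_x5] at this
  have h8 : ¬ 8 ∣ Nat.card ↥(centralizer ({x5} : Set ON)) := by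
    intro h
    rw [hcard] at h
    obtain ⟨k, hk⟩ := h
    obtain ⟨j, hj⟩ := hodd
    omega
  have h4 : 4 ∣ Nat.card ↥(centralizer ({x5} : Set ON)) := by rw [hcard]; exact dvd_mul_right _ _
  obtain ⟨n, hn, hN⟩ := CpAutON.Gen.card_eq (G := ON) (p := 5) no_sq_five order_x5
  have h1 : Nat.card ↥((zpowers x5).normalizerMonoidHom).range = 4 :=
    Nat.dvd_antisymm (range_dvd order_x5) (four_dvd_range order_x5 y5_conj)
  rw [h1, card_ON] at hN
  obtain ⟨a, b, c, d, e, f, g, ha, hb, hc, hd, he, hf, hg, hs⟩ := shape (cent_dvd x5)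
  rw [hs] at h7 h11 h19 h31 h3a h3b h5' h8 h4 hN ⊢
  clear hs h49 hcard hM hMn hmem h1
  have hd0 : d = 0 := by
    by_contra h
    apply h7
    obtain ⟨k, rfl⟩ := Nat.exists_eq_succ_of_ne_zero h
    exact ⟨2 ^ a * (3 ^ b * (5 ^ c * (7 ^ k * (11 ^ e * (19 ^ f * 31 ^ g))))), by rw [pow_succ]; ring⟩
  have he0 : e = 0 := by
    by_contra h
    apply h11
    obtain ⟨k, rfl⟩ := Nat.exists_eq_succ_of_ne_zero h
    exact ⟨2 ^ a * (3 ^ b * (5 ^ c * (7 ^ d * (11 ^ k * (19 ^ f * 31 ^ g))))), by rw [pow_succ]; ring⟩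
  have hf0 : f = 0 := by
    by_contra h
    apply h19
    obtain ⟨k, rfl⟩ := Nat.exists_eq_succ_of_ne_zero h
    exact ⟨2 ^ a * (3 ^ b * (5 ^ c * (7 ^ d * (11 ^ e * (19 ^ k * 31 ^ g))))), by rw [pow_succ]; ring⟩
  have hg0 : g = 0 := by
    by_contra h
    apply h31
    obtain ⟨k, rfl⟩ := Nat.exists_eq_succ_of_ne_zero h
    exact ⟨2 ^ a * (3 ^ b * (5 ^ c * (7 ^ d * (11 ^ e * (19 ^ f * 31 ^ k))))), by rw [pow_succ]; ring⟩
  subst hd0 he0 hf0 hg0
  interval_cases c <;> interval_cases a <;> interval_cases b <;> norm_num at * <;> omega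

end Cfsg.Agent.H474.ONC
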